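import Groth.Agent.Crv77.Hopf
import Groth.Agent.Var76.RegMulX
import Groth.Agent.Var76.RegPow

/-! Multiplication of cohomology classes by global sections. -/

set_option autoImplicit false
set_option backward.isDefEq.respectTransparency.types false
universe u

open CategoryTheory CategoryTheory.Limits AlgebraicGeometry TopologicalSpace Opposite CategoryTheory.Abelian

noncomputable section

namespace Groth.Agent.Nakai75

open Groth.Agent.Var76.LineBundle
open Groth.Agent.Var76.Reg (whiskR whiskR_tm whiskL whiskL_tm tensUnitLeft_tm)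
open Groth.Agent.Amp73 (tm tmLeft)

variable {X : Scheme.{u}} (k : Type u) [Field k] [X.Over (Spec (CommRingCat.of k))] {T : X.Modules}

theorem res_add {U : X.Opens} (x y : Γ(T, ⊤)) :
    res T (le_top : U ≤ ⊤) (x + y) = res T le_top x + res T le_top y :=
  map_add _ x y

theorem toAb_tmLeft_add (M : X.Modules) (s s' : Γ(T, ⊤)) :
    (Crv77.toAbF X).map (tmLeft (s + s') M) =
      (Crv77.toAbF X).map (tmLeft s M) + (Crv77.toAbF X).map (tmLeft s' M) := by
  ext U y
  refine (Amp73.tmLeft_app _ M U.unop y).trans ?_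
  rw [res_add, Amp73.tm_add_left]
  rfl

theorem toAb_tmLeft_smul (M : X.Modules) (r : Γ(X, ⊤)) (s : Γ(T, ⊤)) :
    (Crv77.toAbF X).map (tmLeft (r • s) M) =
      (Crv77.toAbF X).map (tmLeft s M) ≫ Coh.smulAb (CohB1.tensorMod T M) r := by
  ext U y
  refine (Amp73.tmLeft_app _ M U.unop y).trans ?_
  rw [show res T (le_top : U.unop ≤ ⊤) (r • s) = _ • res T le_top s from
    Scheme.Modules.map_smul T (homOfLE le_top) r s, Amp73.tm_smul_left]
  rfl

/-- Multiplication by a global section as a bilinear map on cohomology. -/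
def mulH (M : X.Modules) (q : ℕ) :
    Coh.HH X T 0 →ₗ[k] Coh.HH X M q →ₗ[k] Coh.HH X (CohB1.tensorMod T M) q where
  toFun v := Crv77.hmap k (tmLeft (Crv77.sec T v) M) q
  map_add' v w := by
    refine LinearMap.ext fun x => ?_
    show Ext.comp x _ (add_zero q) = Ext.comp x _ (add_zero q) + Ext.comp x _ (add_zero q)
    refine Eq.trans ?_ (Ext.comp_add x _ _ (add_zero q))
    refine congrArg (fun f => Ext.comp x f (add_zero q)) ?_
    refine Eq.trans ?_ (Ext.mk₀_add _ _)
    refine congrArg Ext.mk₀ ?_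
    rw [map_add]
    exact toAb_tmLeft_add M _ _
  map_smul' a v := by
    refine LinearMap.ext fun x => ?_
    rw [RingHom.id_apply, LinearMap.smul_apply, Crv77.smul_eq_comp k _ q a]
    show Ext.comp x _ (add_zero q) = _
    rw [Crv77.sec_smul k T a v, toAb_tmLeft_smul]
    exact (Crv77.ext_comp_comp x _ _).symm

theorem mulH_apply (M : X.Modules) (q : ℕ) (v : Coh.HH X T 0) (x : Coh.HH X M q) :
    mulH k M q v x = Crv77.hmap k (tmLeft (Crv77.sec T v) M) q x := rfl

theorem tmLeft_natural (t : Γ(T, ⊤)) {M N : X.Modules} (g : M ⟶ N) :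
    tmLeft t M ≫ whiskL T g = g ≫ tmLeft t N :=
  Scheme.Modules.hom_ext _ _ fun U => AddCommGrpCat.ext fun y => by
    rw [Scheme.Modules.Hom.comp_app, Scheme.Modules.Hom.comp_app]
    exact whiskL_tm _ g _ y

/-- `mulH` vanishing propagates along maps surjective on cohomology. -/
theorem mulH_eq_zero_of_surjective {M N : X.Modules} (g : M ⟶ N) {q : ℕ}
    (hg : Function.Surjective (Crv77.hmap k g q)) {v : Coh.HH X T 0} (h : mulH k M q v = 0) :
    mulH k N q v = 0 := by
  refine LinearMap.ext fun y => ?_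
  obtain ⟨x, rfl⟩ := hg y
  rw [mulH_apply, Crv77.hmap_comp, ← tmLeft_natural, ← Crv77.hmap_comp, ← mulH_apply, h]
  simp

/-- Left multiplication by a section is the twist of the corresponding morphism out of `O`. -/
theorem tmLeft_eq (v : Coh.HH X T 0) (M : X.Modules) :
    tmLeft (Crv77.sec T v) M =
      (EGA73.tensUnitLeft M).inv ≫ whiskR (Crv77.toHom v) M := by
  refine Scheme.Modules.hom_ext _ _ fun U => AddCommGrpCat.ext fun y => ?_
  let z : Γ(CohB1.tensorMod (Coh.structureModule X) M, U) :=
    tm (Coh.structureModule X) M (1 : Γ(X, U)) y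
  have h1 : (EGA73.tensUnitLeft M).inv.app U y = z := by
    have h : (EGA73.tensUnitLeft M).hom.app U z = y :=
      (tensUnitLeft_tm M 1 y).trans (one_smul _ _)
    refine (congrArg ((EGA73.tensUnitLeft M).inv.app U) h.symm).trans ?_
    show ((EGA73.tensUnitLeft M).hom ≫ (EGA73.tensUnitLeft M).inv).app U z = z
    rw [Iso.hom_inv_id]
    rfl
  refine (Amp73.tmLeft_app _ M U y).trans ?_
  refine Eq.trans ?_ (congrArg ((whiskR (Crv77.toHom v) M).app U) h1).symm
  refine Eq.trans ?_ (whiskR_tm (Crv77.toHom v) M (1 : Γ(X, U)) y).symm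
  refine congrArg (fun m => tm T M m y) ?_
  exact ((EGA73.unitHom_app T _ U 1).trans (one_smul _ _)).symm

end Groth.Agent.Nakai75

end
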