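import Groth.Agent.Nakai75.Van
import Groth.Agent.Nakai75.Mul
import Groth.Agent.HP96.Basic
import Groth.Agent.Crv77.Special

/-! The Nakai–Moishezon induction step on an integral proper scheme. -/

set_option autoImplicit false
set_option backward.isDefEq.respectTransparency.types false
universe u

open CategoryTheory CategoryTheory.Limits AlgebraicGeometry TopologicalSpace Opposite Polynomial

noncomputable section

namespace Groth.Agent.Nakai75

open Groth.Agent.Var76.Reg (whiskR)

theorem exists_forall_lt_eval {P : ℚ[X]} {d : ℕ} (hd : 0 < d) (hdeg : P.natDegree ≤ d)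
    (hc : 0 < P.coeff d) (C : ℚ) : ∃ n₀ : ℕ, ∀ n, n₀ ≤ n → C < P.eval (n : ℚ) := by
  have hn : P.natDegree = d := le_antisymm hdeg (le_natDegree_of_ne_zero hc.ne')
  have h : Filter.Tendsto (fun x : ℚ => P.eval x) Filter.atTop Filter.atTop := by
    refine P.tendsto_atTop_of_leadingCoeff_nonneg ?_ ?_
    · rw [← natDegree_pos_iff_degree_pos, hn]
      exact hd
    · rw [leadingCoeff, hn]
      exact hc.le
  exact Filter.eventually_atTop.1 ((h.comp tendsto_natCast_atTop_atTop).eventually (Filter.eventually_gt_atTop C))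

theorem exists_ne_zero_of_finrank_pos {k V : Type*} [Field k] [AddCommGroup V] [Module k V]
    (h : 0 < Module.finrank k V) : ∃ v : V, v ≠ 0 :=
  haveI := Module.nontrivial_of_finrank_pos h
  exists_ne 0

variable (k : Type u) [Field k] {X : Scheme.{u}} [X.Over (Spec (CommRingCat.of k))]
  [IsProper (X ↘ Spec (CommRingCat.of k))] {L : X.Modules}

/-- The dimension of cohomology. -/
abbrev hdim (M : X.Modules) (q : ℕ) : ℕ := Module.finrank k (Coh.HH X M q)

omit [IsProper (X ↘ Spec (CommRingCat.of k))] in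
theorem hdim_congr {M N : X.Modules} (e : M ≅ N) (q : ℕ) : hdim k M q = hdim k N q :=
  (Crv77.hEquiv k e q).finrank_eq

/-- The Euler characteristic is at most `h⁰` plus the dimensions in degrees at least two. -/
theorem exists_euler_le (M : X.Modules) (hM : Coh.IsCoh M) {B : ℕ}
    (hB : ∀ (N : X.Modules), N.IsQuasicoherent → ∀ p, B ≤ p → Subsingleton (Coh.HH X N p)) :
    Curv2.euler k X M ≤
      (hdim k M 0 : ℤ) + ∑ i ∈ Finset.range B, (if 2 ≤ i then (hdim k M i : ℤ) else 0) := by
  have hb : Crv77.FinBdd k M (B + 1) :=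
    ⟨fun n => Serre71.finite_hh_of_isProper k M hM n, fun n hn => hB M hM.1 n (by omega)⟩
  have hB0 : hdim k M B = 0 :=
    haveI := hB M hM.1 B le_rfl
    Module.finrank_zero_of_subsingleton
  rw [hb.euler_eq]
  have key : ∀ i ∈ Finset.range (B + 1), (-1 : ℤ) ^ i * (hdim k M i : ℤ) ≤
      (if i = 0 then (hdim k M 0 : ℤ) else 0) + (if 2 ≤ i then (hdim k M i : ℤ) else 0) := by
    intro i _
    rcases i with _ | _ | i
    · simp
    · simp
    · simp only [Nat.add_eq_zero_iff, and_false, if_false, zero_add, one_ne_zero,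
        show 2 ≤ i + 1 + 1 by omega, if_true]
      rcases neg_one_pow_eq_or ℤ (i + 1 + 1) with h | h <;> rw [h] <;> omega
  refine (Finset.sum_le_sum key).trans ?_
  rw [Finset.sum_add_distrib, Finset.sum_ite_eq', Finset.sum_range_succ _ B, hB0]
  simp

variable [IsIntegral X] (hL : PicF.IsInvertible L)
  (hT : ∀ M : X.Modules, Coh.IsCoh M → genericPoint X ∉ CohB1.support M → Van L M)

include k hL hT

/-- Torsion cokernels do not affect high twists in positive degrees. -/
theorem eventually_surjective {M N : X.Modules} (φ : M ⟶ N) [Mono φ] (hM : Coh.IsCoh M)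
    (hN : Coh.IsCoh N) (hφ : Function.Surjective (QC70.stalkMapM φ (genericPoint X))) :
    ∃ n₀ : ℕ, ∀ n, n₀ ≤ n → ∀ q : ℕ, 1 ≤ q →
      Function.Surjective (Crv77.hmap k ((DCoh.tensorRightMod (CohB1.tensorPow L n)).map φ) q) ∧
      Function.Injective (Crv77.hmap k ((DCoh.tensorRightMod (CohB1.tensorPow L n)).map φ) (q + 1)) := by
  have := Crv77.isNoetherian_of_proper k X
  let S := ShortComplex.mk φ (cokernel.π φ) (cokernel.condition φ)
  have hS : S.ShortExact := ShortComplex.ShortExact.mk'
    (ShortComplex.exact_of_g_is_cokernel _ (cokernelIsCokernel _)) inferInstance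
    (inferInstanceAs (Epi (cokernel.π φ)))
  obtain ⟨n₀, hn⟩ := hT (cokernel φ) (QC70.isCoh_cokernel φ hM.1 hN)
    (QC70.notMem_support_iff.2 (QC70.subsingleton_stalk_cokernel φ _ hφ))
  refine ⟨n₀, fun n h q hq => ?_⟩
  have hS' := twist_shortExact hS (EGA73.isInvertible_tensorPow hL n)
  have : Subsingleton (Coh.HH X (S.map (DCoh.tensorRightMod (CohB1.tensorPow L n))).X₃ q) := hn n h q hq
  refine ⟨fun y => (Crv77.exact_f_g k hS' q y).1 (Subsingleton.elim _ _), ?_⟩
  rw [← LinearMap.ker_eq_bot, LinearMap.ker_eq_bot']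
  intro x hx
  obtain ⟨z, rfl⟩ := (Crv77.exact_δ_f k hS' q x).1 hx
  rw [Subsingleton.elim z 0]
  exact map_zero _

/-- Extensions by torsion modules preserve eventual vanishing. -/
theorem van_of_mono {M N : X.Modules} (φ : M ⟶ N) [hm : Mono φ] (hM : Coh.IsCoh M) (hN : Coh.IsCoh N)
    (hφ : Function.Surjective (QC70.stalkMapM φ (genericPoint X))) (h : Van L M) : Van L N := by
  have := Crv77.isNoetherian_of_proper k X
  exact van_ext (S := ShortComplex.mk φ (cokernel.π φ) (cokernel.condition φ))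
    (ShortComplex.ShortExact.mk' (ShortComplex.exact_of_g_is_cokernel _ (cokernelIsCokernel _))
      hm (inferInstanceAs (Epi (cokernel.π φ)))) hL h
    (hT (cokernel φ) (QC70.isCoh_cokernel φ hM.1 hN)
      (QC70.notMem_support_iff.2 (QC70.subsingleton_stalk_cokernel φ _ hφ)))

omit [IsIntegral X] hT in
theorem isCoh_twist {M : X.Modules} (hM : Coh.IsCoh M) (n : ℕ) :
    Coh.IsCoh (CohB1.tensorMod M (CohB1.tensorPow L n)) :=
  have := Crv77.isNoetherian_of_proper k X
  Amp73.isCoh_tensorMod hM (Amp73.isCoh_of_isInvertible (EGA73.isInvertible_tensorPow hL n))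

/-- Cohomology in degrees at least two of high powers is eventually constant. -/
theorem exists_hdim_const :
    ∃ n₀ : ℕ, ∀ n, n₀ ≤ n → ∀ q, 2 ≤ q →
      hdim k (CohB1.tensorPow L n) q = hdim k (CohB1.tensorPow L n₀) q := by
  have := Crv77.isNoetherian_of_proper k X
  have hO : Coh.IsCoh (Coh.structureModule X) := QC70.isCoh_unit
  have := hO.1
  let F := CohB1.tensorMod (Coh.structureModule X) L
  have hF : Coh.IsCoh F := Amp73.isCoh_tensorMod hO (Amp73.isCoh_of_isInvertible hL)
  obtain ⟨e⟩ := Snapper75.nonempty_stalk_twist (Coh.structureModule X) hL (genericPoint X)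
  obtain ⟨J, ψ, hJ, hψ, hψb⟩ := QC70.exists_mono_iso_at hO hF (genericPoint X) e.symm
  have hJc := QC70.isCoh_idealMul J hO
  obtain ⟨a, ha⟩ := eventually_surjective k hL hT ψ hJc hF hψb.2
  obtain ⟨b, hb⟩ := eventually_surjective k hL hT (Dual3.idealMulι J (Coh.structureModule X)) hJc hO
    (QC70.bijective_stalk_idealMulι J _ hJ).2
  have step : ∀ n, max a b ≤ n → ∀ q, 2 ≤ q →
      hdim k (CohB1.tensorPow L n) q = hdim k (CohB1.tensorPow L (1 + n)) q := by
    intro n hn q hq
    obtain ⟨q, rfl⟩ : ∃ p, q = p + 1 := ⟨q - 1, by omega⟩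
    have bij : ∀ {M N : X.Modules} (φ : M ⟶ N),
        Function.Surjective (Crv77.hmap k φ (q + 1)) → Function.Injective (Crv77.hmap k φ (q + 1)) →
          hdim k M (q + 1) = hdim k N (q + 1) :=
      fun φ h1 h2 => (LinearEquiv.ofBijective _ ⟨h2, h1⟩).finrank_eq
    have h1 := bij _ (ha n (le_trans (le_max_left _ _) hn) (q + 1) (by omega)).1
      (ha n (le_trans (le_max_left _ _) hn) q (by omega)).2
    have h2 := bij _ (hb n (le_trans (le_max_right _ _) hn) (q + 1) (by omega)).1
      (hb n (le_trans (le_max_right _ _) hn) q (by omega)).2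
    rw [← hdim_congr k (EGA73.tensUnitLeft (CohB1.tensorPow L n)), ← hdim_congr k
      (EGA73.tensAssoc' (Coh.structureModule X) L (CohB1.tensorPow L n) ≪≫ EGA73.tensUnitLeft _ ≪≫
        EGA73.tensIso (Amp73.powOne L).symm (Iso.refl _) ≪≫ Amp73.powAdd L 1 n)]
    exact h2.symm.trans h1
  refine ⟨max a b, fun n hn q hq => ?_⟩
  induction n, hn using Nat.le_induction with
  | base => rfl
  | succ n hn ih => rw [← ih, step n hn q hq, Nat.add_comm]

variable {d : ℕ} (hd : 0 < d) (hdim' : topologicalKrullDim X ≤ (d : WithBot ℕ∞))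
  (hc : 0 < (HP96.hp k L (Coh.structureModule X)).coeff d)

include hd hdim' hc

/-- The spaces of global sections of the powers grow without bound. -/
theorem exists_hdim_zero_gt (C : ℕ) : ∃ n, 1 ≤ n ∧ C < hdim k (CohB1.tensorPow L n) 0 := by
  have := Crv77.isNoetherian_of_proper k X
  obtain ⟨B, hB⟩ := Crv77.exists_bound_HH (X := X)
  obtain ⟨n₀, hn₀⟩ := exists_hdim_const k hL hT
  have hO : Coh.IsCoh (Coh.structureModule X) := QC70.isCoh_unit
  let K : ℕ := ∑ i ∈ Finset.range B, hdim k (CohB1.tensorPow L n₀) i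
  obtain ⟨n₁, hn₁⟩ := exists_forall_lt_eval hd (HP96.natDegree_hp_le k hL hO
    ((topologicalKrullDim_subspace_le X _).trans hdim')) hc ((C + K : ℕ) : ℚ)
  refine ⟨max (max n₀ n₁) 1, le_max_right _ _, ?_⟩
  generalize hn : max (max n₀ n₁) 1 = n
  have h1 := hn₁ n (by omega)
  rw [← HP96.isHilbPoly_hp k hL hO n] at h1
  change ((C + K : ℕ) : ℚ) < (Curv2.euler k X
    (CohB1.tensorMod (Coh.structureModule X) (CohB1.tensorPow L n)) : ℚ) at h1
  rw [Crv77.euler_congr (EGA73.tensUnitLeft (CohB1.tensorPow L n))] at h1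
  have h2 : ((C + K : ℕ) : ℤ) < Curv2.euler k X (CohB1.tensorPow L n) := by exact_mod_cast h1
  have h3 := exists_euler_le k (CohB1.tensorPow L n)
    (Amp73.isCoh_of_isInvertible (EGA73.isInvertible_tensorPow hL n)) hB
  have h4 : ∑ i ∈ Finset.range B, (if 2 ≤ i then (hdim k (CohB1.tensorPow L n) i : ℤ) else 0) ≤ (K : ℤ) := by
    simp only [K, Nat.cast_sum]
    refine Finset.sum_le_sum fun i _ => ?_
    split_ifs with hi
    · rw [hn₀ n (by omega) i hi]
    · exact Int.natCast_nonneg _
  push_cast at h2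
  omega

omit hd hdim' hc in
/-- A nonzero section gives surjections in positive degrees of high powers. -/
theorem exists_mul_surjective {m : ℕ} {v : Coh.HH X (CohB1.tensorPow L m) 0} (hv : v ≠ 0) :
    ∃ n₀ : ℕ, ∀ n, n₀ ≤ n → ∀ q : ℕ, 1 ≤ q → Function.Surjective
      (Crv77.hmap k (Amp73.tmLeft (Crv77.sec _ v) (CohB1.tensorPow L n)) q) := by
  have := Crv77.isNoetherian_of_proper k X
  have hM := EGA73.isInvertible_tensorPow hL m
  obtain ⟨hmono, hsurj⟩ := Crv77.section_of_invertible hM (Crv77.toHom v) (by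
    rw [Crv77.toHom_app_one]
    exact fun h => hv ((Crv77.sec _).map_eq_zero_iff.1 h))
  obtain ⟨n₀, hn⟩ := eventually_surjective k hL hT (Crv77.toHom v) QC70.isCoh_unit
    (Amp73.isCoh_of_isInvertible hM) hsurj
  refine ⟨n₀, fun n h q hq y => ?_⟩
  obtain ⟨x, hx⟩ := (hn n h q hq).1 y
  refine ⟨Crv77.hmap k (EGA73.tensUnitLeft _).hom q x, ?_⟩
  rw [tmLeft_eq v, Crv77.hmap_comp, Iso.hom_inv_id_assoc]
  exact hx

/-- High powers have no higher cohomology. -/
theorem van_unit : Van L (Coh.structureModule X) := by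
  have := Crv77.isNoetherian_of_proper k X
  obtain ⟨B, hB⟩ := Crv77.exists_bound_HH (X := X)
  have hcoh : ∀ n, Coh.IsCoh (CohB1.tensorPow L n) :=
    fun n => Amp73.isCoh_of_isInvertible (EGA73.isInvertible_tensorPow hL n)
  have hfin : ∀ n q, Module.Finite k (Coh.HH X (CohB1.tensorPow L n) q) :=
    fun n q => Serre71.finite_hh_of_isProper k _ (hcoh n) q
  obtain ⟨m, hm, h0⟩ := exists_hdim_zero_gt k hL hT hd hdim' hc 0
  obtain ⟨s, hs⟩ := exists_ne_zero_of_finrank_pos h0
  obtain ⟨N, hN⟩ := exists_mul_surjective k hL hT hs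
  let g : ∀ n, CohB1.tensorPow L n ⟶ CohB1.tensorPow L (m + n) := fun n =>
    Amp73.tmLeft (Crv77.sec _ s) (CohB1.tensorPow L n) ≫ (Amp73.powAdd L m n).hom
  have hg : ∀ n, N ≤ n → ∀ q, 1 ≤ q → Function.Surjective (Crv77.hmap k (g n) q) := by
    intro n hn q hq y
    obtain ⟨x, hx⟩ := hN n hn q hq (Crv77.hmap k (Amp73.powAdd L m n).inv q y)
    refine ⟨x, ?_⟩
    rw [← Crv77.hmap_comp, hx, Crv77.hmap_comp, Iso.inv_hom_id, Crv77.hmap_id]
  have key : ∀ q, 1 ≤ q → ∃ p₀ : ℕ, ∀ p, p₀ ≤ p → Subsingleton (Coh.HH X (CohB1.tensorPow L p) q) := by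
    intro q hq
    let w := (Finset.range (N + m)).sup fun n => hdim k (CohB1.tensorPow L n) q
    have hw : ∀ n, hdim k (CohB1.tensorPow L n) q ≤ w := by
      intro n
      induction n using Nat.strong_induction_on with
      | _ n ih =>
        by_cases h : n < N + m
        · exact Finset.le_sup (f := fun n => hdim k (CohB1.tensorPow L n) q) (Finset.mem_range.2 h)
        · obtain ⟨j, rfl⟩ : ∃ j, n = m + j := ⟨n - m, by omega⟩
          have := hfin j q
          refine (LinearMap.finrank_le_finrank_of_surjective (hg j (by omega) q hq)).trans (ih j (by omega))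
    obtain ⟨a, ha, hbig⟩ := exists_hdim_zero_gt k hL hT hd hdim' hc (w * w)
    have claim : ∀ n, N ≤ n → ∃ j₀ : ℕ, ∀ j, j₀ ≤ j →
        Subsingleton (Coh.HH X (CohB1.tensorPow L (a + (j * m + n))) q) := by
      intro n hn
      have := hfin n q
      have := hfin a 0
      have : Module.Finite k (Coh.HH X (CohB1.tensorMod (CohB1.tensorPow L a) (CohB1.tensorPow L n)) q) :=
        Serre71.finite_hh_of_isProper k _ (Amp73.isCoh_tensorMod (hcoh a) (hcoh n)) q
      let Φ := mulH k (T := CohB1.tensorPow L a) (CohB1.tensorPow L n) q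
      have hlt : Module.finrank k (Coh.HH X (CohB1.tensorPow L n) q →ₗ[k]
          Coh.HH X (CohB1.tensorMod (CohB1.tensorPow L a) (CohB1.tensorPow L n)) q) <
          Module.finrank k (Coh.HH X (CohB1.tensorPow L a) 0) := by
        rw [Module.finrank_linearMap]
        refine lt_of_le_of_lt ?_ hbig
        exact Nat.mul_le_mul (hw n) ((hdim_congr k (Amp73.powAdd L a n) q).le.trans (hw _))
      obtain ⟨v, hvk, hv⟩ := Submodule.exists_mem_ne_zero_of_ne_bot
        (LinearMap.ker_ne_bot_of_finrank_lt (f := Φ) hlt)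
      have hz : ∀ j, mulH k (CohB1.tensorPow L (j * m + n)) q v = 0 := by
        intro j
        induction j with
        | zero =>
          rw [Nat.zero_mul, Nat.zero_add]
          exact hvk
        | succ j ih =>
          rw [show (j + 1) * m + n = m + (j * m + n) by ring]
          exact mulH_eq_zero_of_surjective k (g (j * m + n)) (hg _ (by omega) q hq) ih
      obtain ⟨n₁, hn₁⟩ := exists_mul_surjective k hL hT hv
      refine ⟨n₁, fun j hj => ValVan29.subsingleton_hh_of_iso (Amp73.powAdd L a _) q ?_⟩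
      have hsur := hn₁ (j * m + n) (le_trans hj (le_trans (Nat.le_mul_of_pos_right j (by omega))
        (Nat.le_add_right _ _))) q hq
      refine subsingleton_of_forall_eq 0 fun y => ?_
      obtain ⟨x, rfl⟩ := hsur y
      rw [← mulH_apply, hz j, LinearMap.zero_apply]
    choose j₀ hj₀ using claim
    let J := (Finset.range m).sup fun r => j₀ (N + r) (Nat.le_add_right _ _)
    refine ⟨a + N + (J + 1) * m, fun p hp => ?_⟩
    have hr : (p - (a + N)) % m < m := Nat.mod_lt _ (by omega)
    have hj : J + 1 ≤ (p - (a + N)) / m := (Nat.le_div_iff_mul_le (by omega)).2 (by omega)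
    have hle : j₀ (N + (p - (a + N)) % m) (Nat.le_add_right _ _) ≤ J :=
      Finset.le_sup (f := fun r => j₀ (N + r) (Nat.le_add_right _ _)) (Finset.mem_range.2 hr)
    have := hj₀ (N + (p - (a + N)) % m) (Nat.le_add_right _ _) ((p - (a + N)) / m) (by omega)
    rwa [show a + ((p - (a + N)) / m * m + (N + (p - (a + N)) % m)) = p by
      have := Nat.div_add_mod' (p - (a + N)) m
      omega] at this
  choose p₀ hp₀ using key
  refine ⟨(Finset.range B).sup fun q => if h : 1 ≤ q then p₀ q h else 0, fun n hn q hq => ?_⟩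
  refine ValVan29.subsingleton_hh_of_iso (EGA73.tensUnitLeft _).symm q ?_
  by_cases hqB : q < B
  · refine hp₀ q hq n (le_trans ?_ hn)
    have := Finset.le_sup (f := fun q => if h : 1 ≤ q then p₀ q h else 0) (Finset.mem_range.2 hqB)
    simpa [hq] using this
  · exact hB _ (hcoh n).1 q (not_lt.1 hqB)

set_option maxHeartbeats 1000000 in
/-- Every nonzero ideal contains a module with vanishing twisted cohomology. -/
theorem van_idealMul (J : X.IdealSheafData) (hJ : genericPoint X ∉ (J.support : Set X)) :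
    Van L ((Dual3.idealMul J).obj (Coh.structureModule X)) := by
  have := Crv77.isNoetherian_of_proper k X
  have hO : Coh.IsCoh (Coh.structureModule X) := QC70.isCoh_unit
  have := hO.1
  let M := (Dual3.idealMul J).obj (Coh.structureModule X)
  let ι := Dual3.idealMulι J (Coh.structureModule X)
  have hM : Coh.IsCoh M := QC70.isCoh_idealMul J hO
  have hιb := QC70.bijective_stalk_idealMulι J (Coh.structureModule X) hJ
  have hQ := QC70.isCoh_quot J hO
  have hQη : genericPoint X ∉ CohB1.support (QC70.quotSC J (Coh.structureModule X)).X₃ :=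
    QC70.notMem_support_iff.2 (QC70.subsingleton_stalk_cokernel _ _ hιb.2)
  -- leading coefficient
  have := hQ.2
  have hQc : (HP96.hp k L (QC70.quotSC J (Coh.structureModule X)).X₃).coeff d = 0 := by
    refine HP96.coeff_hp_eq_zero k hL hQ ?_ le_rfl
    refine Snapper75.dim_lt_of_notMem (QC70.isClosed_support _) ?_ hQη ?_
    · rw [(genericPoint_spec X).def]
      exact Set.subset_univ _
    · exact lt_of_le_of_lt ((topologicalKrullDim_subspace_le X _).trans hdim')
        (by exact_mod_cast Nat.lt_succ_self d)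
  have hMc : 0 < (HP96.hp k L M).coeff d := by
    have := congrArg (Polynomial.coeff · d) (HP96.hp_add k hL (QC70.quotSC_shortExact J (Coh.structureModule X)) hM hO hQ)
    simp only [coeff_add, hQc, add_zero] at this
    exact this ▸ hc
  obtain ⟨N, hN⟩ := van_unit k hL hT hd hdim' hc
  obtain ⟨a, ha⟩ := eventually_surjective k hL hT ι hM hO hιb.2
  obtain ⟨n₁, hn₁⟩ := exists_forall_lt_eval hd (HP96.natDegree_hp_le k hL hM
    ((topologicalKrullDim_subspace_le X _).trans hdim')) hMc 0
  let n := max (max N a) n₁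
  have hMn : Coh.IsCoh (CohB1.tensorMod M (CohB1.tensorPow L n)) := isCoh_twist k hL hM n
  have hpos : 0 < hdim k (CohB1.tensorMod M (CohB1.tensorPow L n)) 0 := by
    obtain ⟨B, hB⟩ := Crv77.exists_bound_HH (X := X)
    have h1 := hn₁ n (le_max_right _ _)
    rw [← HP96.isHilbPoly_hp k hL hM n] at h1
    have h2 : (0 : ℤ) < Curv2.euler k X (CohB1.tensorMod M (CohB1.tensorPow L n)) := Int.cast_pos.1 h1
    have h3 := exists_euler_le k _ hMn hB
    have h4 : ∑ i ∈ Finset.range B,
        (if 2 ≤ i then (hdim k (CohB1.tensorMod M (CohB1.tensorPow L n)) i : ℤ) else 0) = 0 := by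
      refine Finset.sum_eq_zero fun i _ => ?_
      split_ifs with hi
      · obtain ⟨i, rfl⟩ : ∃ p, i = p + 1 := ⟨i - 1, by omega⟩
        have h5 := hN n (le_trans (le_max_left _ _) (le_max_left _ _)) (i + 1) (by omega)
        have h6 : Subsingleton (Coh.HH X (CohB1.tensorMod M (CohB1.tensorPow L n)) (i + 1)) :=
          @Function.Injective.subsingleton _ _ _
            (ha n (le_trans (le_max_right _ _) (le_max_left _ _)) i (by omega)).2 h5
        exact congrArg (fun z : ℕ => (z : ℤ)) (@Module.finrank_zero_of_subsingleton k _ _ _ _ _ h6)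
      · rfl
    omega
  obtain ⟨v, hv⟩ := exists_ne_zero_of_finrank_pos hpos
  have hLn := EGA73.isInvertible_tensorPow hL n
  let S := (QC70.quotSC J (Coh.structureModule X)).map (DCoh.tensorRightMod (CohB1.tensorPow L n))
  have hS : S.ShortExact := twist_shortExact (QC70.quotSC_shortExact J _) hLn
  let u := EGA73.tensUnitLeft (CohB1.tensorPow L n)
  let τ : CohB1.tensorMod M (CohB1.tensorPow L n) ⟶ CohB1.tensorPow L n := S.f ≫ u.hom
  have hSf : Mono S.f := hS.mono_f
  have hτ : Mono τ := @mono_comp _ _ _ _ _ S.f hSf u.hom inferInstance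
  let φ := Crv77.toHom v
  obtain ⟨hmono, hsurj⟩ := Crv77.section_of_invertible hLn (φ ≫ τ) (by
    intro h
    refine hv ((Crv77.sec _).map_eq_zero_iff.1 (QC70.app_injective_of_mono τ ⊤ ?_))
    rw [← Crv77.toHom_app_one v, map_zero]
    exact h)
  have hφm : Mono φ := mono_of_mono φ τ
  have hφs : Function.Surjective (QC70.stalkMapM φ (genericPoint X)) := by
    intro y
    obtain ⟨x, hx⟩ := hsurj (QC70.stalkMapM τ (genericPoint X) y)
    rw [QC70.stalkMapM_comp] at hx
    exact ⟨x, QC70.injective_stalkMapM_of_mono τ _ hx⟩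
  have hv' : Van L (CohB1.tensorMod M (CohB1.tensorPow L n)) :=
    van_of_mono k hL hT φ hO hMn hφs ⟨N, hN⟩
  exact van_of_twist n hv'

end Groth.Agent.Nakai75

end
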