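import Groth.Agent.Nakai75.Integral
import Groth.Agent.HP96.Positive
import Groth.Agent.RB70.AmpleH1

/-! The Nakai–Moishezon criterion. -/

set_option autoImplicit false
set_option backward.isDefEq.respectTransparency.types false
universe u

open CategoryTheory CategoryTheory.Limits AlgebraicGeometry TopologicalSpace Opposite Polynomial

noncomputable section

namespace Groth.Agent.Nakai75

variable (k : Type u) [Field k] {X : Scheme.{u}} [X.Over (Spec (CommRingCat.of k))]
  [IsProper (X ↘ Spec (CommRingCat.of k))] {L : X.Modules}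

/-- The self-intersection numbers on integral closed subschemes are positive. -/
def PosAll (L : X.Modules) : Prop :=
  ∀ (Z : X.IdealSheafData) [IsIntegral Z.subscheme] (d : ℕ), 0 < d →
    topologicalKrullDim (Z.support : Set X) = d →
    ∀ P : MvPolynomial (Fin d) ℚ,
      (∀ n : Fin d → ℕ, (Curv2.euler k X (Curv2.tensorPows (ClSub.quotMod Z) d (fun _ => L) n) : ℚ) =
        MvPolynomial.eval (fun i => (n i : ℚ)) P) →
      0 < MvPolynomial.coeff (Finsupp.equivFunOnFinite.symm fun _ : Fin d => 1) P

theorem support_quotMod (Z : X.IdealSheafData) :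
    CohB1.support (ClSub.quotMod Z) = (Z.support : Set X) := by
  refine (Snapper75.support_quotMod_subset Z).antisymm fun x hx => ?_
  rw [← Z.range_subschemeι] at hx
  obtain ⟨z, rfl⟩ := hx
  have : Nontrivial ((Coh.structureModule Z.subscheme).presheaf.stalk z) :=
    QC70.nontrivial_stalk_unit _
  exact not_subsingleton_iff_nontrivial.2
    (QC70.nontrivial_stalk_pushforward Z.subschemeι (Coh.structureModule Z.subscheme) z)

include k in
theorem isCoh_quotMod (Z : X.IdealSheafData) : Coh.IsCoh (ClSub.quotMod Z) := by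
  have := Crv77.isNoetherian_of_proper k X
  exact QC70.isCoh_pushforward _ _ Crv77.isCoh_structureModule

/-- The intersection number is `d!` times the leading coefficient of the Hilbert polynomial. -/
theorem coeff_eq_hp (hL : PicF.IsInvertible L) (Z : X.IdealSheafData) {d : ℕ}
    (hdim : topologicalKrullDim (Z.support : Set X) ≤ (d : WithBot ℕ∞)) {P : MvPolynomial (Fin d) ℚ}
    (hP : ∀ n : Fin d → ℕ, (Curv2.euler k X (Curv2.tensorPows (ClSub.quotMod Z) d (fun _ => L) n) : ℚ) =
        MvPolynomial.eval (fun i => (n i : ℚ)) P) :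
    P.coeff (Finsupp.equivFunOnFinite.symm fun _ : Fin d => 1) =
      (d.factorial : ℚ) * (HP96.hp k L (ClSub.quotMod Z)).coeff d := by
  have hF := isCoh_quotMod k Z
  have hd := (support_quotMod Z).symm ▸ hdim
  exact Snapper75.coeff_const_eq k hL hF hd (HP96.isHilbPoly_hp k hL hF)
    (HP96.natDegree_hp_le k hL hF hd) hP

/-- An ample module has positive self-intersection numbers. -/
theorem posAll_of_isAmple (hA : CohB1.IsAmple L) : PosAll k L := by
  intro Z _ d hd hdim P hP
  have hL := hA.1
  rw [coeff_eq_hp k hL Z hdim.le hP]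
  exact (HP96.alpha_pos_iff k hA (isCoh_quotMod k Z) ((support_quotMod Z).symm ▸ hdim.le)).2
    ((support_quotMod Z).symm ▸ hdim)

/-- Positivity of the leading coefficient on the closure of a point. -/
theorem coeff_pos (hL : PicF.IsInvertible L) (h : PosAll k L) (Z : X.IdealSheafData)
    [IsIntegral Z.subscheme] {d : ℕ} (hd : 0 < d)
    (hdim : topologicalKrullDim (Z.support : Set X) = (d : WithBot ℕ∞)) :
    0 < (HP96.hp k L (ClSub.quotMod Z)).coeff d := by
  have hF := isCoh_quotMod k Z
  have hmem : Snapper75.chi k (fun _ : Fin d => L) (ClSub.quotMod Z) ∈ Snapper75.polySub d (d + 1) :=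
    Snapper75.chi_mem_polySub k (fun _ => hL) (d + 1) _ hF
      (lt_of_le_of_lt ((support_quotMod Z).le.trans_eq rfl |> TopDim50.dim_mono)
        (hdim ▸ (by exact_mod_cast Nat.lt_succ_self d)))
  obtain ⟨P, -, hP⟩ := Snapper75.mem_polySub_iff.1 hmem
  have h1 := h Z d hd hdim P hP
  rw [coeff_eq_hp k hL Z hdim.le hP] at h1
  exact pos_of_mul_pos_right h1 (Nat.cast_nonneg _)

theorem van_all (hL : PicF.IsInvertible L) (h : PosAll k L) (F : X.Modules) (hF : Coh.IsCoh F) :
    Van L F := by
  have := Crv77.isNoetherian_of_proper k X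
  have := hF.2
  refine QC70.devissage (Van L) (fun M N ⟨e⟩ hM => van_congr e hM)
    (fun M hM => van_of_isZero hM hL) (fun S hS _ _ _ h1 h3 => van_ext hS hL h1 h3)
    (fun G r _ hr hG => ?_) (CohB1.support F) (QC70.isClosed_support F) (fun y _ IH => ?_)
    F hF subset_rfl
  · exact van_retract k (Sigma.ι (fun _ : Fin r => G) ⟨0, hr⟩) (Sigma.desc fun _ => 𝟙 G)
      (Sigma.ι_desc _ _) hG
  let Y : Closeds X := ⟨closure {y}, isClosed_closure⟩
  let I := Scheme.IdealSheafData.vanishingIdeal Y
  have hI : (I.support : Set X) = closure {y} := Scheme.IdealSheafData.coe_support_vanishingIdeal Y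
  let Zs := I.subscheme
  let f : Zs ⟶ X := I.subschemeι
  have hrange : Set.range f = closure {y} := (I.range_subschemeι).trans hI
  have : IsIntegral Zs := Curves2.isIntegral_vanishingIdeal Y isIrreducible_singleton.closure
  letI : Zs.Over (Spec (CommRingCat.of k)) := ⟨f ≫ (X ↘ Spec (CommRingCat.of k))⟩
  have : IsProper (Zs ↘ Spec (CommRingCat.of k)) :=
    inferInstanceAs (IsProper (f ≫ (X ↘ Spec (CommRingCat.of k))))
  have := Crv77.isNoetherian_of_proper k Zs
  have hOZ : Coh.IsCoh (Coh.structureModule Zs) := Crv77.isCoh_structureModule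
  have := hOZ.1
  have hyη : f (genericPoint Zs) = y := by
    refine IsGenericPoint.eq ?_ isGenericPoint_closure
    have h := (genericPoint_spec Zs).image f.continuous
    rwa [Set.image_univ, f.isClosedEmbedding.isClosed_range.closure_eq, hrange] at h
  let LZ := (Scheme.Modules.pullback f).obj L
  have hLZ : PicF.IsInvertible LZ := Amp73.isInvertible_pullback f hL
  -- torsion modules on the subscheme
  have hT : ∀ M : Zs.Modules, Coh.IsCoh M → genericPoint Zs ∉ CohB1.support M → Van LZ M := by
    intro M hM hη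
    have := hM.1
    have := hM.2
    refine (van_push_iff k f rfl hL hM).1 (IH _ (QC70.isCoh_pushforward f M hM)
      ((QC70.support_pushforward_subset f M).trans hrange.le) (QC70.notMem_support_iff.2 ?_))
    rw [← hyη]
    have := QC70.notMem_support_iff.1 hη
    exact (Equiv.ofBijective _ (QC70.bijective_pushStalk f M (genericPoint Zs))).subsingleton
  have hG : Coh.IsCoh ((Scheme.Modules.pushforward f).obj (Coh.structureModule Zs)) :=
    QC70.isCoh_pushforward f _ hOZ
  have hnt : Nontrivial (((Scheme.Modules.pushforward f).obj (Coh.structureModule Zs)).presheaf.stalk y) := by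
    have : Nontrivial ((Coh.structureModule Zs).presheaf.stalk (genericPoint Zs)) :=
      QC70.nontrivial_stalk_unit _
    exact hyη ▸ QC70.nontrivial_stalk_pushforward f (Coh.structureModule Zs) (genericPoint Zs)
  refine ⟨_, hG, hnt, hyη ▸ QC70.stalk_pushforward_killed f (Coh.structureModule Zs), fun J hJ => ?_⟩
  have := hG.1
  refine ⟨_, 𝟙 _, inferInstance, QC70.isCoh_idealMul J hG, ?_, ?_⟩
  · rw [Category.id_comp]
    exact QC70.bijective_stalk_idealMulι J _ hJ
  obtain ⟨e, -⟩ := QC70.exists_iso_pushforward_idealMul f (H := Coh.structureModule Zs) J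
  refine van_congr e ((van_push_iff k f rfl hL (QC70.isCoh_idealMul _ hOZ)).2 ?_)
  -- the structure sheaf of the subscheme
  have hJZ : genericPoint Zs ∉ ((J.comap f).support : Set Zs) := by
    rw [Scheme.IdealSheafData.support_comap]
    intro hη
    exact hJ (hyη ▸ hη)
  have hne : Nonempty Zs := ⟨genericPoint Zs⟩
  obtain ⟨d, hd⟩ : ∃ d : ℕ, topologicalKrullDim Zs = (d : WithBot ℕ∞) := by
    obtain ⟨D, hD⟩ := HP96.exists_dim_lt (X := Zs) k
    have h0 : 0 ≤ topologicalKrullDim Zs := TopDim50.dim_nonneg
    revert hD h0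
    generalize topologicalKrullDim Zs = a
    intro hD h0
    obtain ⟨b, rfl⟩ := WithBot.ne_bot_iff_exists.1 (ne_bot_of_le_ne_bot (by decide) h0)
    obtain ⟨c, rfl⟩ := WithTop.ne_top_iff_exists.1
      (ne_top_of_lt (WithBot.coe_lt_coe.1 (show (b : WithBot ℕ∞) < ((D : ℕ∞) : WithBot ℕ∞) from hD)))
    exact ⟨c, rfl⟩
  rcases Nat.eq_zero_or_pos d with rfl | hd0
  · exact van_of_dim_zero (by simpa using hd.le) _
  have hdimY : topologicalKrullDim (I.support : Set X) = (d : WithBot ℕ∞) := by
    rw [← hd, hI, ← hrange]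
    exact (IsHomeomorph.topologicalKrullDim_eq _
      f.isClosedEmbedding.isEmbedding.toHomeomorph.isHomeomorph).symm
  have hc := coeff_pos k hL h I hd0 hdimY
  have heq : HP96.hp k L (ClSub.quotMod I) = HP96.hp k LZ (Coh.structureModule Zs) := by
    refine (HP96.eq_hp k (fun m => ?_)).symm
    rw [← HP96.isHilbPoly_hp k hLZ hOZ m]
    have hLm := EGA73.isInvertible_tensorPow hL m
    obtain ⟨e⟩ := Curves2.Ample.nonempty_push_unit_tensor f hLm
    rw [show ShStab.twist X L (ClSub.quotMod I) m = CohB1.tensorMod (ClSub.quotMod I) (CohB1.tensorPow L m) from rfl,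
      Crv77.euler_congr e, Curves2.Ample.euler_push k f rfl _
        (Crv77.isCoh_of_isInvertible (Amp73.isInvertible_pullback f hLm))]
    exact congrArg (fun z : ℤ => (z : ℚ))
      (Crv77.euler_congr (Amp73.pullPowIso f hL m ≪≫ (EGA73.tensUnitLeft _).symm))
  exact van_idealMul k hLZ hT hd0 hd.le (heq ▸ hc) _ hJZ

/-- The Nakai–Moishezon criterion. -/
theorem isAmple_iff_posAll (hL : PicF.IsInvertible L) : CohB1.IsAmple L ↔ PosAll k L := by
  refine ⟨posAll_of_isAmple k, fun h => ?_⟩
  have := Crv77.isNoetherian_of_proper k X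
  have : CompactSpace X := inferInstance
  have : QuasiSeparatedSpace X := inferInstance
  refine RB70.isAmple_of_H1 hL fun J ι _ hJ => ?_
  obtain ⟨n, hn⟩ := van_all k hL h J hJ
  exact ⟨n, hn (n + 1) (Nat.le_succ n) 1 le_rfl⟩

end Groth.Agent.Nakai75

end
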