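import Groth.Agent.Snapper75.Push
import Groth.Agent.Snapper75.Diagonal
import Groth.Agent.ValVan29.PushTwist
import Groth.Agent.ValVan29.Vanish
import Groth.Agent.TopCoh49.Noetherian
import Groth.Agent.Var76.HHPush
import Groth.Agent.Amp73.Powers

/-! Eventual vanishing of higher cohomology of twists. -/

set_option autoImplicit false
set_option backward.isDefEq.respectTransparency.types false
universe u

open CategoryTheory CategoryTheory.Limits AlgebraicGeometry TopologicalSpace Opposite

noncomputable section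

namespace Groth.Agent.Nakai75

variable {X : Scheme.{u}}

/-- The higher cohomology of high twists of `F` by `L` vanishes. -/
def Van (L F : X.Modules) : Prop :=
  ∃ n₀ : ℕ, ∀ n, n₀ ≤ n → ∀ q : ℕ, 1 ≤ q →
    Subsingleton (Coh.HH X (CohB1.tensorMod F (CohB1.tensorPow L n)) q)

variable {L : X.Modules}

theorem van_congr {F G : X.Modules} (e : F ≅ G) (h : Van L F) : Van L G := by
  obtain ⟨n₀, hn⟩ := h
  exact ⟨n₀, fun n h q hq => ValVan29.subsingleton_hh_of_iso
    (EGA73.tensIso e (Iso.refl _)) q (hn n h q hq)⟩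

theorem van_of_isZero {F : X.Modules} (hF : IsZero F) (hL : PicF.IsInvertible L) : Van L F :=
  ⟨0, fun n _ q _ => ValVan29.subsingleton_hh_of_isZero
    (ValVan29.isZero_tensorMod hF (EGA73.isInvertible_tensorPow hL n)) q⟩

/-- Twisting by an invertible module is exact. -/
theorem twist_shortExact {S : ShortComplex X.Modules} (hS : S.ShortExact) {M : X.Modules}
    (hM : PicF.IsInvertible M) : (S.map (DCoh.tensorRightMod M)).ShortExact :=
  Crv77.shortExact_tR_of_locally_flat (O := X.sheaf) M
    (Crv77.locally_flat_of_rank_one (Mero90.isFinLocFreeOfRank_of_isInvertible hM)) hS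

theorem van_ext {S : ShortComplex X.Modules} (hS : S.ShortExact) (hL : PicF.IsInvertible L)
    (h₁ : Van L S.X₁) (h₃ : Van L S.X₃) : Van L S.X₂ := by
  obtain ⟨a, ha⟩ := h₁
  obtain ⟨b, hb⟩ := h₃
  exact ⟨max a b, fun n hn q hq =>
    ValVan29.subsingleton_hh_X₂ (twist_shortExact hS (EGA73.isInvertible_tensorPow hL n)) q
      (ha n (le_trans (le_max_left _ _) hn) q hq) (hb n (le_trans (le_max_right _ _) hn) q hq)⟩

theorem van_retract (k : Type u) [Field k] [X.Over (Spec (CommRingCat.of k))] {F G : X.Modules}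
    (i : F ⟶ G) (p : G ⟶ F) (h : i ≫ p = 𝟙 F) (hG : Van L G) : Van L F := by
  obtain ⟨n₀, hn⟩ := hG
  refine ⟨n₀, fun n hn' q hq => ?_⟩
  let T := DCoh.tensorRightMod (CohB1.tensorPow L n)
  have : Subsingleton (Coh.HH X (T.obj G) q) := hn n hn' q hq
  have h2 : T.map i ≫ T.map p = 𝟙 (T.obj F) := by rw [← T.map_comp, h, T.map_id]
  have hinj : Function.Injective (Crv77.hmap k (T.map i) q) :=
    Function.LeftInverse.injective (g := Crv77.hmap k (T.map p) q) fun x => by
      rw [Crv77.hmap_comp, h2, Crv77.hmap_id]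
  exact hinj.subsingleton

/-- Twisting does not affect eventual vanishing. -/
theorem van_of_twist {F : X.Modules} (a : ℕ) (h : Van L (CohB1.tensorMod F (CohB1.tensorPow L a))) :
    Van L F := by
  obtain ⟨n₀, hn⟩ := h
  refine ⟨n₀ + a, fun n hn' q hq => ?_⟩
  obtain ⟨j, rfl⟩ : ∃ j, n = a + j := ⟨n - a, by omega⟩
  exact ValVan29.subsingleton_hh_of_iso (EGA73.tensAssoc' _ _ _ ≪≫
    EGA73.tensIso (Iso.refl F) (Amp73.powAdd L a j)) q (hn j (by omega) q hq)

theorem van_of_dim_zero [NoetherianSpace X] (h0 : topologicalKrullDim X ≤ 0) (F : X.Modules) :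
    Van L F :=
  ⟨0, fun _ _ q hq => TopCoh49.subsingleton_H_of_dim_lt (X := X.toPresheafedSpace.carrier) (d := 0)
    (by simpa using h0) _ q hq⟩

section Push

variable (k : Type u) [Field k] [X.Over (Spec (CommRingCat.of k))]
  [IsProper (X ↘ Spec (CommRingCat.of k))] {Z : Scheme.{u}} [Z.Over (Spec (CommRingCat.of k))]
  (f : Z ⟶ X) [IsClosedImmersion f]

/-- Eventual vanishing of a direct image along a closed immersion. -/
theorem van_push_iff (hf : f ≫ (X ↘ Spec (CommRingCat.of k)) = Z ↘ Spec (CommRingCat.of k))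
    (hL : PicF.IsInvertible L) {M : Z.Modules} (hM : Coh.IsCoh M) :
    Van L ((Scheme.Modules.pushforward f).obj M) ↔
      Van ((Scheme.Modules.pullback f).obj L) M := by
  have := Crv77.isNoetherian_of_proper k X
  have key : ∀ n q, Subsingleton (Coh.HH X (CohB1.tensorMod ((Scheme.Modules.pushforward f).obj M)
      (CohB1.tensorPow L n)) q) ↔
      Subsingleton (Coh.HH Z (CohB1.tensorMod M
        (CohB1.tensorPow ((Scheme.Modules.pullback f).obj L) n)) q) := by
    intro n q
    let e := ValVan29.projIso f M _ (EGA73.isInvertible_tensorPow hL n) ≪≫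
      (Scheme.Modules.pushforward f).mapIso (EGA73.tensIso (Iso.refl _) (Amp73.pullPowIso f hL n))
    have hN : Coh.IsCoh (CohB1.tensorMod M (CohB1.tensorPow ((Scheme.Modules.pullback f).obj L) n)) :=
      Amp73.isCoh_tensorMod hM (Amp73.isCoh_of_isInvertible
        (EGA73.isInvertible_tensorPow (Amp73.isInvertible_pullback f hL) n))
    have := hN.1
    obtain ⟨l⟩ := Var76.nonempty_hhLin_push f hf _ (QC70.isCoh_pushforward f _ hN).1 q
    exact (Crv77.hEquiv k e q).toEquiv.subsingleton_congr.trans l.toEquiv.subsingleton_congr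
  exact exists_congr fun n₀ => forall₂_congr fun n _ => forall₂_congr fun q _ => key n q

end Push

end Groth.Agent.Nakai75

end
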